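import Cfsg.Agent.OD.Pre
import Cfsg.Agent.H6.Top2
import Cfsg.Agent.H6.G23A.D0
set_option autoImplicit false
set_option maxRecDepth 100000
set_option Elab.async false
set_option linter.all false
namespace CfH6.G23A
open CfH6 MulAction
noncomputable def n0_0 : Net := mkNet (nat_lit 384) [(nat_lit 192, k0), (nat_lit 96, k1), (nat_lit 48, k2), (nat_lit 24, k3), (nat_lit 12, k4), (nat_lit 6, k5), (nat_lit 3, k6)] [(k7, nat_lit 1), (k8, nat_lit 1), (k9, nat_lit 1)]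
noncomputable def n0_1 : Net := revNet n0_0
noncomputable def n0_2 : Net := mkNet (nat_lit 384) [(nat_lit 192, k10), (nat_lit 96, k11), (nat_lit 48, k12), (nat_lit 24, k13), (nat_lit 12, k14), (nat_lit 6, k15), (nat_lit 3, k16)] [(k17, nat_lit 1), (k18, nat_lit 1), (k19, nat_lit 1)]
noncomputable def n0_3 : Net := revNet n0_2
noncomputable def n0_4 : Net := mkNet (nat_lit 384) [(nat_lit 192, k20), (nat_lit 96, k21), (nat_lit 48, k22), (nat_lit 24, k23), (nat_lit 12, k24), (nat_lit 6, k25), (nat_lit 3, k26)] [(k27, nat_lit 1), (k28, nat_lit 1), (k29, nat_lit 1)]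
noncomputable def n0_5 : Net := revNet n0_4
noncomputable def n0_6 : Net := mkNet (nat_lit 384) [(nat_lit 192, k30), (nat_lit 96, k31), (nat_lit 48, k32), (nat_lit 24, k33), (nat_lit 12, k34), (nat_lit 6, k35), (nat_lit 3, k36)] [(k37, nat_lit 1), (k38, nat_lit 1), (k39, nat_lit 1)]
noncomputable def n0_7 : Net := revNet n0_6
noncomputable def n0_8 : Net := mkNet (nat_lit 384) [(nat_lit 192, k40), (nat_lit 96, k41), (nat_lit 48, k42), (nat_lit 24, k43), (nat_lit 12, k44), (nat_lit 6, k45), (nat_lit 3, k46)] [(k47, nat_lit 1), (k48, nat_lit 1), (k49, nat_lit 1)]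
noncomputable def n0_9 : Net := mkNet (nat_lit 384) [(nat_lit 192, k50), (nat_lit 96, k51), (nat_lit 48, k52), (nat_lit 24, k53), (nat_lit 12, k54), (nat_lit 6, k55), (nat_lit 3, k56)] [(k57, nat_lit 1), (k58, nat_lit 1), (k59, nat_lit 1)]
noncomputable def n1_4 : Net := mkNet (nat_lit 384) [(nat_lit 192, k60), (nat_lit 96, k61), (nat_lit 48, k62), (nat_lit 24, k63), (nat_lit 12, k64), (nat_lit 6, k65), (nat_lit 3, k66)] [(k67, nat_lit 1), (k68, nat_lit 1), (k69, nat_lit 1)]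
noncomputable def n2_0 : Net := mkNet (nat_lit 32) [(nat_lit 16, (nat_lit 0x6400640)), (nat_lit 8, (nat_lit 0xc4c40e60)), (nat_lit 4, (nat_lit 0xaa9874a8)), (nat_lit 2, (nat_lit 0xc08a0820))] [((nat_lit 0x54040440), nat_lit 1)]
noncomputable def n2_1 : Net := mkNet (nat_lit 32) [(nat_lit 16, (nat_lit 0xff0cf840)), (nat_lit 8, (nat_lit 0x9e98bab2)), (nat_lit 4, (nat_lit 0x52f60226)), (nat_lit 2, (nat_lit 0xc0c68e40))] [((nat_lit 0x15140110), nat_lit 1)]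
noncomputable def n2_2 : Net := mkNet (nat_lit 32) [(nat_lit 16, (nat_lit 0x4a5a44d0)), (nat_lit 8, (nat_lit 0x97d4b404)), (nat_lit 4, (nat_lit 0xc416e688)), (nat_lit 2, (nat_lit 0xe04400a))] [((nat_lit 0x44010144), nat_lit 1)]
noncomputable def n3_0 : Net := mkNet (nat_lit 5) [] [((nat_lit 0x4), nat_lit 1)]
noncomputable def nets0 : List Net := [n0_0, n0_1, n0_2, n0_3, n0_4, n0_5, n0_6, n0_7, n0_8, n0_9]
noncomputable def nets1 : List Net := [n0_0, n0_2, n0_8, n0_9, n1_4]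
def ws1 : List (List ℕ) := [[0],
  [2],
  [8],
  [9],
  [4, 7]]
noncomputable def nets2 : List Net := [n2_0, n2_1, n2_2]
def ws2 : List (List ℕ) := [[3, 0, 1, 1, 3, 3, 4],
  [2, 3, 4, 0, 2, 1, 4],
  [0, 1, 4, 3, 0, 4]]
noncomputable def nets3 : List Net := [n3_0]
def ws3 : List (List ℕ) := [[2, 2, 2, 0, 1]]
def sig : List (List ℕ) := [[0],
  [1],
  [2],
  [3],
  [4],
  [5],
  [6],
  [7],
  [8],
  [9]]
def eqs0 : List (List ℕ × List ℕ) := [([0, 1], []),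
  ([2, 3], []),
  ([4, 5], []),
  ([6, 7], []),
  ([8, 8], []),
  ([9, 9], []),
  ([0, 0], [1]),
  ([2, 2], [3]),
  ([4, 4], [5]),
  ([6, 6], [7]),
  ([0, 2, 0], [2, 0, 2]),
  ([4, 6, 4], [6, 4, 6]),
  ([1, 5], [5, 1]),
  ([1, 7], [7, 1]),
  ([3, 5], [5, 3]),
  ([3, 7], [7, 3]),
  ([0, 2, 0, 0, 2, 0], [5, 7, 5, 5, 7, 5]),
  ([8, 0], [1, 8]),
  ([8, 2], [3, 8]),
  ([8, 4], [5, 8]),
  ([8, 6], [7, 8]),
  ([9, 8], [8, 9]),
  ([9, 6, 5, 2, 1], [6, 5, 2, 1, 9]),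
  ([9, 0, 2, 0, 9, 8, 6], [4, 6, 4, 0, 3, 4]),
  ([9, 4, 6, 4, 9], [0, 3, 8, 4, 7]),
  ([9, 0, 3, 9, 0], [2, 1, 9, 2]),
  ([9, 0, 4, 9, 0, 4], [1, 2, 7, 1, 9]),
  ([1, 3, 0, 9, 7, 0, 9, 7, 9, 1, 6, 9, 1, 2], [3, 0, 9, 7, 0, 9, 7, 9, 1, 6, 9, 1, 2, 1]),
  ([5, 3, 0, 9, 7, 0, 9, 7, 9, 1, 6, 9, 1, 2], [3, 0, 9, 7, 0, 9, 7, 9, 1, 6, 9, 1, 2, 5])]
def eqs : List (List ℕ × List ℕ) := eqs0
def lU : List (ℕ × ℕ) := [(0, 29), (32, 322)]
noncomputable def U : ℕ := ivls lU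
def l1 : List (ℕ × ℕ) := [(1, 3), (5, 24), (32, 99)]
noncomputable def S1 : ℕ := ivls l1
def w1 : List ℕ := [4]
def l2 : List (ℕ × ℕ) := [(4, 1), (131, 223)]
noncomputable def S2 : ℕ := ivls l2
def w2 : List ℕ := [4, 9, 0, 9, 4]
noncomputable def J : List (List ℕ × ℕ × ℕ) := [(w1, 32, S1), (w2, 4, S2)]
def lBig : List (ℕ × ℕ) := [(4, 1), (131, 223)]
noncomputable def J2 : List (List ℕ × ℕ × ℕ) := [([0], 4, S2)]
noncomputable def J1 : List (List ℕ × ℕ × ℕ) := [([0, 4, 1, 4, 0], 4, S2)]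
def ex : List (List ℕ) := [[9, 0, 5]]
def bs' : List ℕ := [0, 4, 1, 2]
end CfH6.G23A
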